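import Groth.Agent.L27.CompRel.Edge
import Groth.Agent.L27.CompLA.Base
import Groth.Agent.L27.FinBC.Generic

/-! # Restriction to base changes along pro-etale-finite maps of a relatively locally acyclic strict localization -/

universe u

open CategoryTheory CategoryTheory.Limits AlgebraicGeometry Opposite IsLocalRing

set_option autoImplicit false
set_option backward.isDefEq.respectTransparency.types false
set_option linter.style.haveILetI false
set_option linter.unusedSectionVars false

noncomputable section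

namespace Groth.L27.CompRel

open Groth.L27.LimCoh Groth.L27.LimBC Groth.L27.FinBC

variable (RY RX : Type u) [CommRing RY] [HenselianLocalRing RY] [IsSepClosed (ResidueField RY)] [CommRing RX]
  [HenselianLocalRing RX] [IsSepClosed (ResidueField RX)] [Algebra RY RX] [IsLocalHom (algebraMap RY RX)]
  (G : EtCoh.Ab (Spec (CommRingCat.of RX)))
  (hs : StrongLA (Spec.map (CommRingCat.ofHom (algebraMap RY RX))) G)

include hs in
/-- Restriction to the fibre at a separably closed point. -/
theorem bijective_fibre (L : Type u) [Field L] [IsSepClosed L] {U : Scheme.{u}}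
    (u : U ⟶ Spec (CommRingCat.of RX)) (bU : U ⟶ Spec (CommRingCat.of L))
    (t : Spec (CommRingCat.of L) ⟶ Spec (CommRingCat.of RY))
    (c : IsPullback u bU (Spec.map (CommRingCat.ofHom (algebraMap RY RX))) t)
    [PreservesFiniteLimits (EtCoh.pull u)] (q : ℕ) : Function.Bijective (EtCore.Hpull u G q) := by
  obtain ⟨φ, rfl⟩ := Spec.map_surjective t
  letI : Algebra RY L := φ.hom.toAlgebra
  haveI := EtSite.preservesFiniteLimits_pull (𝟙 (Spec (CommRingCat.of RX)))
  refine bijective_Hpull_comp u (𝟙 _) (Category.comp_id u) G q ?_ (L28.AcyComp.bijective_Hpull _ G q)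
  exact bijective_of_strongLA hs RY RX (𝟙 _) (𝟙 _) (by rw [Category.id_comp, Category.comp_id]) L u bU c q

include hs in
/-- Restriction to a strictly local base change integral over a weakly etale one. -/
theorem bijective_strict {R₀ R : Type u} [CommRing R₀] [CommRing R] [HenselianLocalRing R]
    [IsSepClosed (ResidueField R)] [Algebra R₀ R] [Algebra.IsIntegral R₀ R]
    (η : Spec (CommRingCat.of R₀) ⟶ Spec (CommRingCat.of RY)) [WeaklyEtale η]
    (η' : Spec (CommRingCat.of R) ⟶ Spec (CommRingCat.of RY))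
    (hη : Spec.map (CommRingCat.ofHom (algebraMap R₀ R)) ≫ η = η')
    {P : Scheme.{u}} (aR : P ⟶ Spec (CommRingCat.of RX)) (pR : P ⟶ Spec (CommRingCat.of R))
    (c : IsPullback aR pR (Spec.map (CommRingCat.ofHom (algebraMap RY RX))) η')
    [PreservesFiniteLimits (EtCoh.pull aR)] (q : ℕ) : Function.Bijective (EtCore.Hpull aR G q) := by
  let fψ := Spec.map (CommRingCat.ofHom (algebraMap RY RX))
  haveI : QuasiCompact pR := MorphismProperty.of_isPullback (P := @QuasiCompact) c inferInstance
  haveI : QuasiSeparated pR := MorphismProperty.of_isPullback (P := @QuasiSeparated) c inferInstance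
  have hN : DomainHyp pR ((EtCoh.pull aR).obj G) := by
    intro N _ _ _ _ _ hroots K _ r hr W V a bW cW j bV cV _ q
    haveI : IsAlgClosed K := IsAlgClosed.of_exists_root _ fun p hp hirr => by
      obtain ⟨P, hP⟩ := Polynomial.map_surjective r hr p
      obtain ⟨P', hP', hdeg, hmon⟩ := Polynomial.lifts_and_natDegree_eq_and_monic
        (show p ∈ Polynomial.lifts r from ⟨P, hP⟩) hp
      obtain ⟨x, hx⟩ := hroots P' hmon (hdeg ▸ hirr.natDegree_pos)
      exact ⟨r x, by rw [← hP', Polynomial.eval_map, Polynomial.eval₂_at_apply, hx.eq_zero, map_zero]⟩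
    let Ω := FractionRing N
    haveI : IsAlgClosed Ω := IsAlgClosed.of_exists_root _ fun p hp hirr =>
      L20.IntCover.hasRoots_localization hroots (nonZeroDivisors N) (L := Ω) p hp hirr.natDegree_pos
    letI : Algebra R₀ N := ((algebraMap R N).comp (algebraMap R₀ R)).toAlgebra
    haveI : IsScalarTower R₀ R N := IsScalarTower.of_algebraMap_eq' rfl
    haveI : Algebra.IsIntegral R₀ N := Algebra.IsIntegral.trans R
    let tΩ := Spec.map (CommRingCat.ofHom (algebraMap N Ω))
    let h := pullback.fst bW tΩ
    haveI := EtSite.preservesFiniteLimits_pull h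
    have cR := cW.paste_horiz c
    have hNN : Spec.map (CommRingCat.ofHom (algebraMap R N)) ≫ η' =
        Spec.map (CommRingCat.ofHom (algebraMap R₀ N)) ≫ η := by
      rw [← hη, ← Spec.map_comp_assoc]
      rfl
    let a₀ : W ⟶ pullback fψ η := pullback.lift (a ≫ aR) (bW ≫ Spec.map (CommRingCat.ofHom (algebraMap R₀ N)))
      (by rw [Category.assoc bW, ← hNN]; exact cR.w)
    have cW₀ : IsPullback a₀ bW (pullback.snd fψ η) (Spec.map (CommRingCat.ofHom (algebraMap R₀ N))) :=
      IsPullback.of_right (v₁₃ := fψ) (h₁₂ := pullback.fst fψ η) (h₂₂ := η)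
        (isPullback_congr (pullback.lift_fst _ _ _).symm hNN cR) (pullback.lift_snd _ _ _)
        (IsPullback.of_hasPullback fψ η)
    let aW := a ≫ aR
    let e₁ : (EtCoh.pull a₀).obj ((EtCoh.pull (pullback.fst fψ η)).obj G) ≅ (EtCoh.pull aW).obj G :=
      ((EtCore.pullComp a₀ (pullback.fst fψ η)).symm ≪≫ EtCore.pullCongr (pullback.lift_fst _ _ _)).app G
    haveI := EtSite.preservesFiniteLimits_pull aW
    haveI := EtSite.preservesFiniteLimits_pull (h ≫ aW)
    haveI := EtSite.preservesFiniteLimits_pull (j ≫ aW)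
    have hh : Function.Bijective (EtCore.Hpull h ((EtCoh.pull aW).obj G) q) := bijective_Hpull_congr h e₁ q
      (bijective_Hpull_generic hs η N hroots a₀ bW cW₀ Ω (IsFractionRing.injective N Ω) h _
        (IsPullback.of_hasPullback _ _) q)
    have hW : Function.Bijective (EtCore.Hpull aW G q) := bijective_Hpull_left h aW rfl G q hh
      (bijective_fibre RY RX G hs Ω _ _ _ ((IsPullback.of_hasPullback bW tΩ).paste_horiz cR) q)
    exact bijective_Hpull_congr j ((EtCore.pullComp a aR).app G) q
      (bijective_Hpull_right j aW rfl G q hW (bijective_fibre RY RX G hs K _ _ _ (cV.paste_horiz cR) q))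
  let i₀ := Spec.map (CommRingCat.ofHom (residue R))
  let i := pullback.fst pR i₀
  haveI := EtSite.preservesFiniteLimits_pull i
  haveI := EtSite.preservesFiniteLimits_pull (i ≫ aR)
  exact bijective_Hpull_left i aR rfl G q
    (bijective_closedFibre pR ((EtCoh.pull aR).obj G) i _ (IsPullback.of_hasPullback pR i₀) hN q)
    (bijective_fibre RY RX G hs (ResidueField R) _ _ _ ((IsPullback.of_hasPullback pR i₀).paste_horiz c) q)

include hs in
/-- Restriction to the base change along an acyclic connected base is bijective. -/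
theorem bijective_pullback {T₀ T : Scheme.{u}} (π : T ⟶ T₀) [IsIntegralHom π]
    (v : T₀ ⟶ Spec (CommRingCat.of RY)) [WeaklyEtale v] [ConnectedSpace T]
    (hT : ∀ q : ℕ, 0 < q → Subsingleton (EtCoh.H T
      (ConstSect.K (G.obj.obj (op (EtCoh.top (Spec (CommRingCat.of RX))))) T) q))
    [PreservesFiniteLimits (EtCoh.pull (pullback.fst (Spec.map (CommRingCat.ofHom (algebraMap RY RX))) (π ≫ v)))]
    (q : ℕ) :
    Function.Bijective
      (EtCore.Hpull (pullback.fst (Spec.map (CommRingCat.ofHom (algebraMap RY RX))) (π ≫ v)) G q) := by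
  let fψ := Spec.map (CommRingCat.ofHom (algebraMap RY RX))
  let p := π ≫ v
  let h := pullback.snd fψ p
  let a' := pullback.fst fψ p
  haveI : PreservesFiniteLimits (EtCoh.pull a') :=
    ‹PreservesFiniteLimits (EtCoh.pull (pullback.fst (Spec.map (CommRingCat.ofHom (algebraMap RY RX))) (π ≫ v)))›
  haveI := EtSite.preservesFiniteLimits_pull fψ
  haveI := EtSite.preservesFiniteLimits_pull p
  haveI := EtSite.preservesFiniteLimits_pull h
  haveI := EtSite.preservesFiniteLimits_pull (h ≫ p)
  haveI : QuasiCompact h := MorphismProperty.pullback_snd (P := @QuasiCompact) _ _ inferInstance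
  haveI : QuasiSeparated h := MorphismProperty.pullback_snd (P := @QuasiSeparated) _ _ inferInstance
  haveI : ConnectedSpace ↥(Spec (CommRingCat.of RY)) := FinBC.connectedSpace_local RY
  -- the constant sheaf of global sections
  let M := G.obj.obj (op (EtCoh.top (Spec (CommRingCat.of RX))))
  let K₀ := ConstSect.K M (Spec (CommRingCat.of RY))
  obtain ⟨κ, hκ⟩ := FLC.exists_constMap (H := (EtCoh.push fψ).obj G) (M := M)
    (G.obj.map (EtCore.bcTopIso fψ).hom.op).hom
  let κ' := ((EtCoh.pullPushAdj fψ).homEquiv _ _).symm κ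
  have hψ0 : Function.Bijective (EtLim.HpullThen fψ K₀ κ' 0) := by
    rw [bijective_HpullThen_zero_iff, show (EtCoh.pullPushAdj fψ).homEquiv _ _ κ' = κ from Equiv.apply_symm_apply _ _]
    refine (Function.Bijective.of_comp_iff _ (FLC.bijective_cst_top (M := M) (X := Spec (CommRingCat.of RY)))).1 ?_
    have e : κ.hom.app (op (EtCoh.top (Spec (CommRingCat.of RY)))) ∘ ConstSect.cst M (EtCoh.top _) =
        G.obj.map (EtCore.bcTopIso fψ).hom.op := funext fun m => by
      refine (hκ _ m).trans ?_
      rw [(EtCore.topIsTerminal _).hom_ext (FLC.toTop (EtCoh.top (Spec (CommRingCat.of RY)))) (𝟙 _)]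
      exact congr($(((EtCoh.push fψ).obj G).obj.map_id _) _)
    exact e.symm ▸ ConcreteCategory.bijective_of_isIso (G.obj.map (EtCore.bcTopIso fψ).hom.op)
  haveI := isIso_gamma h p rfl K₀
  let θ : (EtCoh.pull h).obj ((EtCoh.pull p).obj K₀) ⟶ (EtCoh.pull a').obj ((EtCoh.pull fψ).obj K₀) :=
    inv (gamma h p rfl K₀) ≫ gamma a' fψ (pullback.condition : a' ≫ fψ = h ≫ p) K₀
  let α := θ ≫ (EtCoh.pull a').map κ'
  let KT := (EtCoh.pull p).obj K₀
  have hcomp : ∀ (n : ℕ) (e : EtCoh.H (Spec (CommRingCat.of RY)) K₀ n),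
      EtLim.HpullThen h KT α n (EtCore.Hpull p K₀ n e) = EtCore.Hpull a' G n (EtLim.HpullThen fψ K₀ κ' n e) := by
    intro n e
    rw [HpullThen_apply, HpullThen_apply, Hpull_map, HF_map_comp, HF_map_comp, Hpull_comp h p rfl,
      Hpull_comp a' fψ (pullback.condition : a' ≫ fψ = h ≫ p)]
    refine congrArg _ (congrArg _ ?_)
    refine (HF_map_comp _ _ n _).symm.trans ?_
    rw [IsIso.hom_inv_id, CategoryTheory.Functor.map_id]
    rfl
  have hp0 : Function.Bijective (EtCore.Hpull p K₀ 0) := bijective_Hpull_zero_K p M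
  have hstrict : ∀ y : T, ∃ (R : Type u) (_ : CommRing R) (_ : HenselianLocalRing R)
      (_ : IsSepClosed (ResidueField R))
      (_ : Algebra (T.presheaf.stalk y) R) (_ : IsLocalHom (algebraMap (T.presheaf.stalk y) R))
      (_ : Hensel.IsStrictHenselization (T.presheaf.stalk y) R),
      ∀ [PreservesFiniteLimits (EtCoh.pull (pullback.snd h (Hens2.specOf T y R)))] (q : ℕ),
        Function.Bijective (EtLim.HpullThen (pullback.snd h (Hens2.specOf T y R))
          ((EtCoh.pull (Hens2.specOf T y R)).obj KT) (αR h α y R) q) := by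
    intro y
    obtain ⟨R, _, _, _, _, hR⟩ := L05.Henselization.exists_isStrictHenselization (T.presheaf.stalk y)
    haveI := hR
    obtain ⟨_, _⟩ := StalkBC.henselian_strict y R
    obtain ⟨R₀, _, _, _, _, hR₀⟩ := L05.Henselization.exists_isStrictHenselization (T₀.presheaf.stalk (π.base y))
    haveI := hR₀
    obtain ⟨φ, _, hφ⟩ := StalkBC.exists_strictMap π y R₀ R
    have hint : φ.IsIntegral := isIntegral_strictMap π y R₀ R φ hφ
    letI : Algebra R₀ R := φ.toAlgebra
    haveI : Algebra.IsIntegral R₀ R := algebraMap_isIntegral_iff.mp hint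
    haveI : WeaklyEtale (Hens2.specOf T₀ (π.base y) R₀) := Acyclic0.weaklyEtale_fromStrict _ R₀
    refine ⟨R, inferInstance, inferInstance, inferInstance, inferInstance, inferInstance, inferInstance,
      fun {_} q => ?_⟩
    let η := Hens2.specOf T y R
    let gW := pullback.fst h η
    haveI := EtSite.preservesFiniteLimits_pull gW
    haveI := EtSite.preservesFiniteLimits_pull η
    haveI := EtSite.preservesFiniteLimits_pull (gW ≫ a')
    have hu := fun q => bijective_strict RY RX G hs (R₀ := R₀) (Hens2.specOf T₀ (π.base y) R₀ ≫ v) (η ≫ p)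
      (by
        rw [← Category.assoc]
        exact (congrArg (· ≫ v) (StalkBC.specOf_comp π y R₀ R φ hφ)).trans (Category.assoc _ _ _))
      (gW ≫ a') (pullback.snd h η)
      ((IsPullback.of_hasPullback h η).flip.paste_vert (IsPullback.of_hasPullback fψ p).flip).flip q
    haveI := isIso_gamma gW a' rfl G
    rcases Nat.eq_zero_or_pos q with rfl | hq
    · haveI : ConnectedSpace ↥(Spec (CommRingCat.of R)) := FinBC.connectedSpace_local R
      have hη : Function.Bijective (EtCore.Hpull η KT 0) :=
        bijective_Hpull_congr η ((EtCore.pullConstIso p).app M).symm 0 (bijective_Hpull_zero_K η M)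
      refine (Function.Bijective.of_comp_iff _ (hη.comp hp0)).1 ?_
      have e : (EtLim.HpullThen (pullback.snd h η) ((EtCoh.pull η).obj KT) (αR h α y R) 0 ∘
          (EtCore.Hpull η KT 0 ∘ EtCore.Hpull p K₀ 0) : EtCoh.H (Spec (CommRingCat.of RY)) K₀ 0 → _) =
          (EtCoh.HF (pullback h η) 0).map (gamma gW a' rfl G) ∘
            (EtCore.Hpull (gW ≫ a') G 0 ∘ EtLim.HpullThen fψ K₀ κ' 0) := funext fun e => by
        refine (Hpull_HpullThen h α y R 0 _).symm.trans ?_
        rw [hcomp]
        exact Hpull_comp gW a' rfl 0 G _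
      exact e.symm ▸ (ConcreteCategory.bijective_of_isIso _).comp ((hu 0).comp hψ0)
    · haveI := EtSite.subsingleton_H R ((EtCoh.pull η).obj KT) q hq
      haveI := EtSite.subsingleton_H RX G q hq
      haveI : Subsingleton (EtCoh.H (pullback h η) ((EtCoh.pull (gW ≫ a')).obj G) q) :=
        (Equiv.ofBijective _ (hu q)).subsingleton_congr.1 inferInstance
      haveI : Subsingleton (EtCoh.H (pullback h η) ((EtCoh.pull gW).obj ((EtCoh.pull a').obj G)) q) :=
        @Equiv.subsingleton _ _ (Equiv.ofBijective _ (ConcreteCategory.bijective_of_isIso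
          ((EtCoh.HF (pullback h η) q).map (gamma gW a' rfl G)))).symm this
      exact ⟨fun _ _ _ => Subsingleton.elim _ _, fun b => ⟨0, Subsingleton.elim _ _⟩⟩
  have hbij := fun q => bijective_HpullThen h α hstrict q
  rcases Nat.eq_zero_or_pos q with rfl | hq
  · refine (Function.Bijective.of_comp_iff _ hψ0).1 ?_
    have e : (EtCore.Hpull a' G 0 ∘ EtLim.HpullThen fψ K₀ κ' 0 : EtCoh.H (Spec (CommRingCat.of RY)) K₀ 0 → _) =
        EtLim.HpullThen h KT α 0 ∘ EtCore.Hpull p K₀ 0 := funext fun e => (hcomp 0 e).symm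
    exact e.symm ▸ (hbij 0).comp hp0
  · haveI := EtSite.subsingleton_H RX G q hq
    haveI := hT q hq
    haveI : Subsingleton (EtCoh.H T KT q) :=
      @Equiv.subsingleton _ _ ((EtCoh.HF T q).mapIso ((EtCore.pullConstIso p).app M)).addCommGroupIsoToAddEquiv.toEquiv
        (hT q hq)
    haveI : Subsingleton (EtCoh.H (pullback fψ p) ((EtCoh.pull a').obj G) q) :=
      (Equiv.ofBijective _ (hbij q)).subsingleton_congr.1 inferInstance
    exact ⟨fun _ _ _ => Subsingleton.elim _ _, fun b => ⟨0, Subsingleton.elim _ _⟩⟩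

end Groth.L27.CompRel
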