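import Groth.Agent.L27.MemRange.Local
import Groth.Agent.L27.FinBC.GenericTools

/-! # Comparison maps into arbitrary coefficients from their behaviour on strict localizations -/

universe u

open CategoryTheory CategoryTheory.Limits AlgebraicGeometry Opposite IsLocalRing

set_option autoImplicit false
set_option backward.isDefEq.respectTransparency.types false
set_option linter.style.haveILetI false
set_option linter.unusedSectionVars false

noncomputable section

namespace Groth.L27.CompRel

open Groth.L27.LimCoh Groth.L27.LimBC Groth.L27.FinBC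

variable {U W : Scheme.{u}} (h : U ⟶ W) [PreservesFiniteLimits (EtCoh.pull h)] {K : EtCoh.Ab W} {G : EtCoh.Ab U}
  (α : (EtCoh.pull h).obj K ⟶ G)

theorem HpullThen_eq_HofPush (n : ℕ) (e : EtCoh.H W K n) :
    EtLim.HpullThen h K α n e =
      EtLim.HofPush h G n ((EtCoh.HF W n).map ((EtCoh.pullPushAdj h).homEquiv _ _ α) e) := by
  rw [HpullThen_apply, EtSite.HofPush_def, Hpull_map, ← HF_map_comp]
  exact congrArg (fun a => (EtCoh.HF U n).map a (EtCore.Hpull h K n e))
    ((((EtCoh.pullPushAdj h).homEquiv_counit _ _ _).symm.trans (Equiv.symm_apply_apply _ α)).symm)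

theorem bijective_HpullThen_zero_iff :
    Function.Bijective (EtLim.HpullThen h K α 0) ↔
      Function.Bijective (((EtCoh.pullPushAdj h).homEquiv _ _ α).hom.app (op (EtCoh.top W))) := by
  let φ := (EtCoh.pullPushAdj h).homEquiv _ _ α
  have e : (EtLim.HpullThen h K α 0 : _ → _) = EtLim.HofPush h G 0 ∘ (EtCoh.HF W 0).map φ :=
    funext (HpullThen_eq_HofPush h α 0)
  refine (iff_of_eq (congrArg Function.Bijective e)).trans
    ((Function.Bijective.of_comp_iff' (CompTransfer.bijective_HofPush_zero h G) _).trans
      ((Function.Bijective.of_comp_iff' (secEq _).bijective _).symm.trans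
        ((iff_of_eq (congrArg Function.Bijective (funext (secEq_map φ) :
          (secEq _ ∘ (EtCoh.HF W 0).map φ : EtCoh.H W K 0 → _) = φ.hom.app (op (EtCoh.top W)) ∘ secEq K))).trans
          (Function.Bijective.of_comp_iff _ (secEq K).bijective))))

omit [PreservesFiniteLimits (EtCoh.pull h)] in
/-- The transpose on a strict localization of the base. -/
def αR (y : W) (R : Type u) [CommRing R] [IsLocalRing R] [Algebra (W.presheaf.stalk y) R] :
    (EtCoh.pull (pullback.snd h (Hens2.specOf W y R))).obj ((EtCoh.pull (Hens2.specOf W y R)).obj K) ⟶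
      (EtCoh.pull (pullback.fst h (Hens2.specOf W y R))).obj G :=
  (L28.AcycCrit.kap h (Hens2.specOf W y R) (pullback.snd h (Hens2.specOf W y R))
      (pullback.fst h (Hens2.specOf W y R)) pullback.condition).hom.app K ≫
    (EtCoh.pull (pullback.fst h (Hens2.specOf W y R))).map α

omit [PreservesFiniteLimits (EtCoh.pull h)] in
theorem homEquiv_αR (y : W) (R : Type u) [CommRing R] [IsLocalRing R] [Algebra (W.presheaf.stalk y) R] :
    (EtCoh.pull (Hens2.specOf W y R)).map ((EtCoh.pullPushAdj h).homEquiv _ _ α) ≫
        EtCoh.baseChange0 h (Hens2.specOf W y R) (pullback.snd h (Hens2.specOf W y R))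
          (pullback.fst h (Hens2.specOf W y R)) pullback.condition G =
      (EtCoh.pullPushAdj (pullback.snd h (Hens2.specOf W y R))).homEquiv _ _ (αR h α y R) := by
  rw [Adjunction.homEquiv_unit, Adjunction.homEquiv_unit, Functor.map_comp, Category.assoc]
  erw [← MemRange.baseChange0_nat pullback.condition α]
  erw [← Category.assoc, L28.AcycCrit.unit_square h _ _ _ pullback.condition K]
  rw [Category.assoc, ← Functor.map_comp]
  rfl

/-- Restriction to a strict localization of a comparison map. -/
theorem Hpull_HpullThen (y : W) (R : Type u) [CommRing R] [IsLocalRing R] [Algebra (W.presheaf.stalk y) R]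
    [PreservesFiniteLimits (EtCoh.pull (Hens2.specOf W y R))]
    [PreservesFiniteLimits (EtCoh.pull (pullback.snd h (Hens2.specOf W y R)))]
    [PreservesFiniteLimits (EtCoh.pull (pullback.fst h (Hens2.specOf W y R)))] (q : ℕ) (x : EtCoh.H W K q) :
    EtCore.Hpull (pullback.fst h (Hens2.specOf W y R)) G q (EtLim.HpullThen h K α q x) =
      EtLim.HpullThen (pullback.snd h (Hens2.specOf W y R)) ((EtCoh.pull (Hens2.specOf W y R)).obj K) (αR h α y R) q
        (EtCore.Hpull (Hens2.specOf W y R) K q x) := by
  rw [HpullThen_eq_HofPush h α q x, HpullThen_eq_HofPush, ← homEquiv_αR h α y R,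
    Groth.Agent.S14389.result h (Hens2.specOf W y R) (pullback.snd h (Hens2.specOf W y R))
      (pullback.fst h (Hens2.specOf W y R)) pullback.condition G q]
  refine congrArg _ ((congrArg _ (Hpull_map _ _ q x)).trans (HF_map_comp _ _ q _).symm)

variable [QuasiCompact h] [QuasiSeparated h]

/-- Bijectivity on a strict localization gives the stalks of the transpose and of the higher direct images. -/
theorem stalk_transpose (y : W) (R : Type u) [CommRing R] [IsLocalRing R] [Algebra (W.presheaf.stalk y) R]
    [IsLocalHom (algebraMap (W.presheaf.stalk y) R)] [Hensel.IsStrictHenselization (W.presheaf.stalk y) R]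
    [HenselianLocalRing R] [IsSepClosed (ResidueField R)]
    [PreservesFiniteLimits (EtCoh.pull (pullback.snd h (Hens2.specOf W y R)))]
    (hb : ∀ q, Function.Bijective (EtLim.HpullThen (pullback.snd h (Hens2.specOf W y R))
      ((EtCoh.pull (Hens2.specOf W y R)).obj K) (αR h α y R) q)) :
    Function.Bijective ((EtCoh.stalk (Hens2.geomPt W y R)).map ((EtCoh.pullPushAdj h).homEquiv _ _ α)) ∧
      ∀ q : ℕ, 0 < q → IsZero ((EtCoh.stalk (Hens2.geomPt W y R)).obj ((EtCoh.Rpush h q).obj G)) := by
  let η := Hens2.specOf W y R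
  let a := pullback.snd h η
  let gW := pullback.fst h η
  haveI := EtSite.preservesFiniteLimits_pull gW
  haveI := EtSite.preservesFiniteLimits_pull η
  refine ⟨?_, fun q hq => ?_⟩
  · haveI := isIso_bcQ_specOf h y R a gW (IsPullback.of_hasPullback h η) 0 G
    haveI := CompTransfer.isIso_baseChange0_of_bcQ η h gW a (IsPullback.of_hasPullback h η).w G
    let T := op (EtCoh.top (Spec (CommRingCat.of R)))
    let c := EtCoh.baseChange0 h η a gW (IsPullback.of_hasPullback h η).w G
    refine bijective_stalk_geomPt y R _ ?_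
    have h0 := (bijective_HpullThen_zero_iff a (αR h α y R)).1 (hb 0)
    have hsq := homEquiv_αR h α y R
    rw [← hsq] at h0
    haveI : IsIso c := inferInstance
    exact ((ConcreteCategory.bijective_of_isIso (((sheafToPresheaf _ _).map c).app T)).of_comp_iff' _).1 h0
  · obtain ⟨i⟩ := StalkRpush.nonempty_natIso h y R q
    refine IsZero.of_iso ?_ (i.app G)
    haveI := EtSite.subsingleton_H R ((EtCoh.pull η).obj K) q hq
    haveI : Subsingleton (EtCoh.H (pullback h η) ((EtCoh.pull gW).obj G) q) :=
      (Equiv.ofBijective _ (hb q)).subsingleton_congr.1 inferInstance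
    exact AddCommGrpCat.isZero_of_subsingleton (AddCommGrpCat.of (EtCoh.H (pullback h η) ((EtCoh.pull gW).obj G) q))

/-- A comparison map which is bijective on all strict localizations of the base is bijective. -/
theorem bijective_HpullThen
    (H : ∀ y : W, ∃ (R : Type u) (_ : CommRing R) (_ : HenselianLocalRing R) (_ : IsSepClosed (ResidueField R))
      (_ : Algebra (W.presheaf.stalk y) R) (_ : IsLocalHom (algebraMap (W.presheaf.stalk y) R))
      (_ : Hensel.IsStrictHenselization (W.presheaf.stalk y) R),
      ∀ [PreservesFiniteLimits (EtCoh.pull (pullback.snd h (Hens2.specOf W y R)))] (q : ℕ),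
        Function.Bijective (EtLim.HpullThen (pullback.snd h (Hens2.specOf W y R))
          ((EtCoh.pull (Hens2.specOf W y R)).obj K) (αR h α y R) q)) (q : ℕ) :
    Function.Bijective (EtLim.HpullThen h K α q) := by
  let φ := (EtCoh.pullPushAdj h).homEquiv _ _ α
  have key : ∀ y : W, ∃ (L : Type u) (_ : Field L) (_ : IsSepClosed L) (ξ : Spec (CommRingCat.of L) ⟶ W),
      ξ.base default = y ∧ Function.Bijective ((EtCoh.stalk ξ).map φ) ∧
      ∀ p : ℕ, 0 < p → IsZero ((EtCoh.stalk ξ).obj ((EtCoh.Rpush h p).obj G)) := by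
    intro y
    obtain ⟨R, _, _, _, _, _, _, hR⟩ := H y
    haveI := EtSite.preservesFiniteLimits_pull (pullback.snd h (Hens2.specOf W y R))
    refine ⟨ResidueField R, inferInstance, inferInstance, Hens2.geomPt W y R, ?_,
      stalk_transpose h α y R (fun q => hR q)⟩
    refine (Scheme.Hom.comp_apply _ _ _).trans (Eq.trans (congrArg (Hens2.specOf W y R) ?_) (specOf_closedPoint y R))
    rw [Subsingleton.elim (default : Spec (CommRingCat.of (ResidueField R))) (closedPoint (ResidueField R))]
    exact IsLocalRing.comap_closedPoint (residue R)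
  haveI : Mono φ := by
    have : Sheaf.IsLocallyInjective φ := EtSite.isLocallyInjective_of_some_stalks _ fun y => by
      obtain ⟨L, _, _, ξ, hξ, hb, -⟩ := key y
      exact ⟨L, _, inferInstance, ξ, hξ, hb.1⟩
    exact Sheaf.mono_of_isLocallyInjective _
  haveI : Epi φ :=
    (Sheaf.isLocallySurjective_iff_epi' (φ := φ)).1 (EtSite.isLocallySurjective_of_some_stalks _ fun y => by
      obtain ⟨L, _, _, ξ, hξ, hb, -⟩ := key y
      exact ⟨L, _, inferInstance, ξ, hξ, hb.2⟩)
  haveI : IsIso φ := isIso_of_mono_of_epi φ
  rw [show (EtLim.HpullThen h K α q : _ → _) = EtLim.HofPush h G q ∘ (EtCoh.HF W q).map φ from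
    funext (HpullThen_eq_HofPush h α q)]
  refine (EtSite.bijective_HofPush h G (fun p hp => EtSite.isZero_of_stalks _ fun y => ?_) q).comp
    (ConcreteCategory.bijective_of_isIso ((EtCoh.HF W q).map φ))
  obtain ⟨L, _, _, ξ, hξ, -, hz⟩ := key y
  exact ⟨L, _, inferInstance, ξ, hξ, hz p hp⟩

end Groth.L27.CompRel
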