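import Groth.Agent.L27.CompRel.Chart
import Groth.Agent.L27.CompLA.Main
import Groth.Agent.L28.AcyComp.Basic

/-! # A relatively locally acyclic morphism followed by a locally acyclic one -/

universe u

open CategoryTheory CategoryTheory.Limits AlgebraicGeometry Opposite IsLocalRing
open scoped TensorProduct

set_option autoImplicit false
set_option backward.isDefEq.respectTransparency.types false
set_option linter.style.haveILetI false
set_option linter.unusedSectionVars false

noncomputable section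

namespace Groth.L27.CompRel

open Groth.L27.LimCoh Groth.L27.LimBC Groth.L27.FinBC

theorem exists_prime_ne_zero (k : Type u) [Field k] : ∃ ℓ : ℕ, ℓ.Prime ∧ (ℓ : k) ≠ 0 := by
  by_cases h : ((2 : ℕ) : k) = 0
  · refine ⟨3, Nat.prime_three, fun h3 => one_ne_zero (α := k) ?_⟩
    have e : ((3 : ℕ) : k) = ((2 : ℕ) : k) + 1 := by norm_num
    rw [h3, h, zero_add] at e
    exact e.symm
  · exact ⟨2, Nat.prime_two, h⟩

set_option maxHeartbeats 800000 in
theorem bijective_comp {X Y Z : Scheme.{u}} (f : X ⟶ Y) (g : Y ⟶ Z) (F : EtCoh.Ab X)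
    (hf : SGA4h.IsLARel f F) (hg : EtRest.IsLocallyAcyclic g) (n : ℕ) (hFn : EtCoh.KilledBy n F)
    (x : X) (hn : (n : X.residueField x) ≠ 0) (RZ RX : Type u) [CommRing RZ] [CommRing RX] [IsLocalRing RZ]
    [IsLocalRing RX] [Algebra (Z.presheaf.stalk ((f ≫ g).base x)) RZ]
    [IsLocalHom (algebraMap (Z.presheaf.stalk ((f ≫ g).base x)) RZ)]
    [Hensel.IsStrictHenselization (Z.presheaf.stalk ((f ≫ g).base x)) RZ]
    [Algebra (X.presheaf.stalk x) RX] [IsLocalHom (algebraMap (X.presheaf.stalk x) RX)]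
    [Hensel.IsStrictHenselization (X.presheaf.stalk x) RX]
    [Algebra RZ RX] [IsLocalHom (algebraMap RZ RX)]
    (w : (algebraMap RZ RX).comp (algebraMap (Z.presheaf.stalk ((f ≫ g).base x)) RZ) =
      (algebraMap (X.presheaf.stalk x) RX).comp ((f ≫ g).stalkMap x).hom)
    (Ω : Type u) [Field Ω] [IsSepClosed Ω] [Algebra RZ Ω]
    [PreservesFiniteLimits (EtCoh.pull (Spec.map (CommRingCat.ofHom (algebraMap RX (RX ⊗[RZ] Ω)))))] (q : ℕ) :
    Function.Bijective (EtCore.Hpull (Spec.map (CommRingCat.ofHom (algebraMap RX (RX ⊗[RZ] Ω))))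
      ((EtCoh.pull (Hens2.specOf X x RX)).obj F) q) := by
  let y := f.base x
  letI : Algebra (Z.presheaf.stalk (g.base y)) RZ :=
    ‹Algebra (Z.presheaf.stalk ((f ≫ g).base x)) RZ›
  haveI : IsLocalHom (algebraMap (Z.presheaf.stalk (g.base y)) RZ) :=
    ‹IsLocalHom (algebraMap (Z.presheaf.stalk ((f ≫ g).base x)) RZ)›
  haveI : Hensel.IsStrictHenselization (Z.presheaf.stalk (g.base y)) RZ :=
    ‹Hensel.IsStrictHenselization (Z.presheaf.stalk ((f ≫ g).base x)) RZ›
  obtain ⟨RY, _, _, _, _, hRY⟩ := L05.Henselization.exists_isStrictHenselization (Y.presheaf.stalk y)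
  haveI := hRY
  obtain ⟨_, _⟩ := StalkBC.henselian_strict y RY
  obtain ⟨_, _⟩ := StalkBC.henselian_strict x RX
  obtain ⟨ψ, hψl, hψ⟩ := StalkBC.exists_strictMap f x RY RX
  have hsc : ((f ≫ g).stalkMap x).hom = (f.stalkMap x).hom.comp (g.stalkMap y).hom := by
    rw [Scheme.Hom.stalkMap_comp]; rfl
  obtain ⟨χ, hχl, hχ, hfac⟩ := L28.AcyComp.exists_strict_factor (A' := RZ) (B' := RY) (C' := RX)
    (g.stalkMap y).hom (f.stalkMap x).hom ψ hψ (algebraMap RZ RX) (by rw [← hsc]; exact w)
  letI : Algebra RY RX := ψ.toAlgebra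
  letI : Algebra RZ RY := χ.toAlgebra
  haveI : IsLocalHom (algebraMap RZ RY) := hχl
  haveI : IsLocalHom (algebraMap RY RX) := hψl
  have hn0 : 0 < n := Nat.pos_of_ne_zero fun h => hn (by rw [h, Nat.cast_zero])
  have hny : (n : Y.residueField y) ≠ 0 := fun h => hn (by
    rw [← map_natCast (f.residueFieldMap x).hom n, h, map_zero])
  have hnX : IsUnit (n : RX) := by
    have hs : IsUnit (n : X.presheaf.stalk x) := by
      refine isUnit_of_map_unit (IsLocalRing.residue (X.presheaf.stalk x)) _ ?_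
      rw [map_natCast]
      exact isUnit_iff_ne_zero.2 hn
    have h := hs.map (algebraMap (X.presheaf.stalk x) RX)
    rwa [map_natCast] at h
  have hnZ : IsUnit (n : RZ) := isUnit_of_map_unit (algebraMap RZ RX) _ (by rwa [map_natCast])
  let L : Set ℕ := {ℓ | ℓ.Prime ∧ ℓ ∣ n}
  have hnL : EtAcyc.PrimesIn L n := ⟨hn0, fun p hp hd => ⟨hp, hd⟩⟩
  let fψ := Spec.map (CommRingCat.ofHom ψ)
  let u := Hens2.specOf X x RX
  let v₀ := Hens2.specOf Y y RY
  haveI : WeaklyEtale u := Acyclic0.weaklyEtale_fromStrict x RX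
  haveI : WeaklyEtale v₀ := Acyclic0.weaklyEtale_fromStrict y RY
  let G := (EtCoh.pull u).obj F
  have hstrong : StrongLA (Spec.map (CommRingCat.ofHom (algebraMap RY RX))) G :=
    strongLA_of_isLARel hf fψ u v₀ (StalkBC.specOf_comp f x RY RX ψ hψ).symm
  have hGt : EtAcyc.IsLTorsion L G := L28.AcyComp.isLTorsion_pull u
    (fun U s z => ⟨U, 𝟙 U, n, ⟨z, rfl⟩, hnL, hFn U _⟩)
  -- the image point and the algebraic separably closed field
  let p : Ideal RZ := RingHom.ker (algebraMap RZ Ω)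
  haveI : p.IsPrime := RingHom.ker_isPrime _
  let Rp := Localization.AtPrime p
  have hp : ∀ s : p.primeCompl, IsUnit (algebraMap RZ Ω s) := fun s => isUnit_iff_ne_zero.2 s.2
  let ρ : Rp →+* Ω := IsLocalization.lift (M := p.primeCompl) hp
  haveI : IsLocalHom ρ := ⟨fun a ha => by
    obtain ⟨b, s, rfl⟩ := IsLocalization.exists_mk'_eq p.primeCompl a
    refine (IsLocalization.AtPrime.isUnit_mk'_iff Rp p b s).2 fun hb => ha.ne_zero ?_
    simp only [ρ, IsLocalization.lift_mk']
    rw [show algebraMap RZ Ω b = 0 from hb, zero_mul]⟩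
  letI : Algebra (ResidueField Rp) Ω := (IsLocalRing.ResidueField.lift ρ).toAlgebra
  let Ω₀ := separableClosure (ResidueField Rp) Ω
  haveI : IsSepClosed Ω₀ := (separableClosure.isSepClosure (ResidueField Rp) Ω).sep_closed
  haveI : Algebra.IsSeparable (ResidueField Rp) Ω₀ := separableClosure.isSeparable _ _
  let ρ₀ : Rp →+* Ω₀ := (algebraMap (ResidueField Rp) Ω₀).comp (residue Rp)
  letI : Algebra RZ Ω₀ := (ρ₀.comp (algebraMap RZ Rp)).toAlgebra
  let π' := Spec.map (CommRingCat.ofHom ρ₀)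
  haveI : IsIntegralHom π' := IsIntegralHom.SpecMap_iff.mpr
    (RingHom.IsIntegral.trans _ _ (RingHom.isIntegral_of_surjective _ IsLocalRing.residue_surjective)
      (algebraMap_isIntegral_iff.2 (Algebra.IsAlgebraic.isIntegral (K := ResidueField Rp) (A := Ω₀))))
  let v' := Spec.map (CommRingCat.ofHom (algebraMap RZ Rp))
  haveI : WeaklyEtale v' := (Groth.L20.weaklyEtale_specMap_iff _).2 (by
    have h := Groth.L20.weaklyEtale_isLocalization p.primeCompl Rp
    have e : (CommRingCat.ofHom (algebraMap RZ Rp)).hom.toAlgebra = (inferInstance : Algebra RZ Rp) :=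
      Algebra.algebra_ext _ _ fun _ => rfl
    exact e.symm ▸ h)
  let cz := Spec.map (CommRingCat.ofHom χ)
  let zL := Spec.map (CommRingCat.ofHom (algebraMap RZ Ω₀))
  have hzL : π' ≫ v' = zL := by rw [← Spec.map_comp]; rfl
  let v := pullback.fst cz v'
  haveI : WeaklyEtale v := MorphismProperty.pullback_fst _ _ inferInstance
  let π := pullback.fst (pullback.snd cz v') π'
  haveI : IsIntegralHom π := MorphismProperty.pullback_fst (P := @IsIntegralHom) _ _ inferInstance
  have cT : IsPullback (π ≫ v) (pullback.snd (pullback.snd cz v') π') cz zL :=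
    hzL ▸ (IsPullback.of_hasPullback (pullback.snd cz v') π').paste_horiz (IsPullback.of_hasPullback cz v')
  obtain ⟨ℓ₀, hℓ₀, hℓ₀y⟩ := exists_prime_ne_zero (Y.residueField y)
  let T := pullback (pullback.snd cz v') π'
  haveI : ConnectedSpace T := by
    haveI : Fact ℓ₀.Prime := ⟨hℓ₀⟩
    haveI : NeZero ℓ₀ := ⟨hℓ₀.ne_zero⟩
    have hT : IsPt ℓ₀ T := (CompLA.isPt_tensor_iff RZ RY Ω₀ cT).2 (hg y RZ RY hχ Ω₀ ℓ₀ hℓ₀y)
    exact (connectedSpace_of_H0 T hT.2).2
  haveI : CompactSpace T := by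
    haveI : IsAffineHom (pullback.snd (pullback.snd cz v') π') := by
      haveI : IsAffineHom (pullback.snd cz v') := MorphismProperty.pullback_snd (P := @IsAffineHom) _ _ inferInstance
      exact MorphismProperty.pullback_snd (P := @IsAffineHom) _ _ inferInstance
    exact QuasiCompact.compactSpace_of_compactSpace (pullback.snd (pullback.snd cz v') π')
  haveI : QuasiSeparatedSpace T := by
    haveI : IsAffineHom (pullback.snd (pullback.snd cz v') π') := by
      haveI : IsAffineHom (pullback.snd cz v') := MorphismProperty.pullback_snd (P := @IsAffineHom) _ _ inferInstance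
      exact MorphismProperty.pullback_snd (P := @IsAffineHom) _ _ inferInstance
    exact quasiSeparatedSpace_of_quasiSeparated (pullback.snd (pullback.snd cz v') π')
  have hTvan : ∀ q : ℕ, 0 < q → Subsingleton (EtCoh.H T
      (ConstSect.K (G.obj.obj (op (EtCoh.top (Spec (CommRingCat.of RX))))) T) q) := fun q hq => by
    refine XV.subsingleton_H_K (L := L) ?_ _ fun m => ⟨n, hnL, ?_⟩
    · intro ℓ hℓ hℓL
      haveI : NeZero ℓ := ⟨hℓ.ne_zero⟩
      have hℓy : (ℓ : Y.residueField y) ≠ 0 := fun h => hny (by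
        obtain ⟨k, hk⟩ := hℓL.2
        rw [hk, Nat.cast_mul, h, zero_mul])
      exact ((CompLA.isPt_tensor_iff RZ RY Ω₀ cT).2 (hg y RZ RY hχ Ω₀ ℓ hℓy) : IsPt ℓ T).1 q hq
    · exact Groth.L27.ProperH1.killedBy_pull u hFn _ m
  haveI := EtSite.preservesFiniteLimits_pull (pullback.fst fψ (π ≫ v))
  have hXT := bijective_pullback RY RX G hstrong π v hTvan q
  have hh : fψ ≫ cz = Spec.map (CommRingCat.ofHom (algebraMap RZ RX)) := by
    rw [← Spec.map_comp]
    exact congrArg (fun r => Spec.map (CommRingCat.ofHom r)) hfac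
  let h' := Spec.map (CommRingCat.ofHom (algebraMap RZ RX))
  have cX : IsPullback (pullback.fst fψ (π ≫ v)) (pullback.snd fψ (π ≫ v) ≫ pullback.snd (pullback.snd cz v') π')
      h' zL := isPullback_congr' hh rfl ((IsPullback.of_hasPullback fψ (π ≫ v)).paste_vert cT)
  haveI := EtSite.preservesFiniteLimits_pull (pullback.fst h' zL)
  have hP : Function.Bijective (EtCore.Hpull (pullback.fst h' zL) G q) :=
    bijective_Hpull_iso_comp cX.isoPullback.inv (pullback.fst fψ (π ≫ v)) cX.isoPullback_inv_fst G q hXT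
  let k := Spec.map (CommRingCat.ofHom (algebraMap Ω₀ Ω))
  let b := pullback.fst (pullback.snd h' zL) k
  have hL : ∀ ℓ ∈ L, ℓ.Prime → (ℓ : Ω₀) ≠ 0 := fun ℓ hℓ _ h => by
    have hnΩ := hnZ.map (algebraMap RZ Ω₀)
    rw [map_natCast] at hnΩ
    obtain ⟨m, hm⟩ := hℓ.2
    exact hnΩ.ne_zero (by rw [hm, Nat.cast_mul, h, zero_mul])
  haveI := EtSite.preservesFiniteLimits_pull b
  haveI := EtSite.preservesFiniteLimits_pull (b ≫ pullback.fst h' zL)
  have hb : Function.Bijective (EtCore.Hpull b ((EtCoh.pull (pullback.fst h' zL)).obj G) q) :=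
    ((ULA.compN_self (SmoothLA.isUAcyclicN_fieldExt Ω₀ Ω L hL q b _ (pullback.snd h' zL)
        (IsPullback.of_hasPullback (pullback.snd h' zL) k).flip)) _ (L28.AcyComp.isLTorsion_pull _ hGt)).1 q le_rfl
  have hbc := bijective_Hpull_comp b (pullback.fst h' zL) rfl G q hb hP
  have hk : k ≫ zL = Spec.map (CommRingCat.ofHom (algebraMap RZ Ω)) := by
    rw [← Spec.map_comp]
    refine congrArg (fun r => Spec.map r) (CommRingCat.hom_ext (RingHom.ext fun a => ?_))
    show ρ (algebraMap RZ Rp a) = algebraMap RZ Ω a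
    exact IsLocalization.lift_eq hp a
  have c' := hk ▸ (IsPullback.of_hasPullback (pullback.snd h' zL) k).paste_horiz (IsPullback.of_hasPullback h' zL)
  have pb₀ := isPullback_SpecMap_of_isPushout _ _ _ _ (CommRingCat.isPushout_tensorProduct RZ RX Ω)
  exact bijective_Hpull_iso_comp (pb₀.isoIsPullback _ _ c').hom (b ≫ pullback.fst h' zL)
    (IsPullback.isoIsPullback_hom_fst ..) G q hbc

end Groth.L27.CompRel
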