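import Groth.Agent.L27.CompRel.Main
import Groth.Agent.L27.SmoothLA.Apps
import Groth.Prelude.Def_SGA4h

/-! # Universal relative local acyclicity of a composite with a smooth morphism -/

universe u

open CategoryTheory CategoryTheory.Limits AlgebraicGeometry Opposite IsLocalRing
open scoped TensorProduct

set_option autoImplicit false
set_option backward.isDefEq.respectTransparency.types false
set_option linter.style.haveILetI false
set_option linter.unusedSectionVars false

noncomputable section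

namespace Groth.L27.CompRel

theorem isLocallyAcyclic_of_smooth {X S : Scheme.{u}} (g : X ⟶ S) [Smooth g] : EtRest.IsLocallyAcyclic g := by
  intro x RS RX _ _ _ _ _ _ _ _ _ _ _ _ hc Ω _ _ _ n hn
  exact ⟨fun q hq => (Groth.L27.SmoothLA.vanishingCycles_smooth g x RS RX hc Ω n hn q).1 hq,
    (Groth.L27.SmoothLA.vanishingCycles_smooth g x RS RX hc Ω n hn 0).2⟩

theorem natCast_ne_zero {X S : Scheme.{u}} (f : X ⟶ S) (n : ℕ) (hn : IsUnit (n : Γ(S, ⊤))) (x : X) :
    (n : X.residueField x) ≠ 0 := by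
  have h := hn.map (f.appTop ≫ X.presheaf.germ ⊤ x trivial ≫ X.residue x).hom
  rw [map_natCast] at h
  exact h.ne_zero

theorem isULARel_comp {X S₁ S₂ : Scheme.{u}} (f : X ⟶ S₁) (g : S₁ ⟶ S₂) [Smooth g]
    (n : ℕ) (hn : IsUnit (n : Γ(S₂, ⊤))) (F : EtCoh.Ab X) (hFn : EtCoh.KilledBy n F)
    (hf : SGA4h.IsULARel f F) : SGA4h.IsULARel (f ≫ g) F := by
  intro S' X' s f' g' c
  let g₁ := pullback.snd g s
  let f₁ : X' ⟶ pullback g s := pullback.lift (g' ≫ f) f' ((Category.assoc _ _ _).trans c.w)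
  have hfac : f₁ ≫ g₁ = f' := pullback.lift_snd _ _ _
  have c₁ : IsPullback g' f₁ f (pullback.fst g s) := by
    refine IsPullback.of_bot (v₂₁ := g₁) (v₂₂ := g) (h₃₁ := s) ?_ (pullback.lift_fst _ _ _).symm
      (IsPullback.of_hasPullback g s)
    rw [hfac]
    exact c
  have h₁ := hf _ _ (pullback.fst g s) f₁ g' c₁
  haveI : Smooth g₁ := MorphismProperty.pullback_snd _ _ inferInstance
  suffices key : ∀ h' : X' ⟶ S', f₁ ≫ g₁ = h' → SGA4h.IsLARel h' ((EtCoh.pull g').obj F) from key f' hfac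
  intro h' e
  subst e
  intro x RS RX _ _ _ _ _ _ _ _ _ _ _ _ w Ω _ _ _ _ q
  exact bijective_comp f₁ g₁ ((EtCoh.pull g').obj F) h₁ (isLocallyAcyclic_of_smooth g₁) n
    (Groth.L27.ProperH1.killedBy_pull g' hFn) x (natCast_ne_zero (g' ≫ f ≫ g) n hn x) RS RX w Ω q

end Groth.L27.CompRel
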